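import Mathlib
import Cfsg.Agent.Lib.Helper50.HUPT.Defs

/-!
# HUPT project (S3360): package [FIXM]
-/

set_option autoImplicit false

namespace Cfsg.Agent.Lib.Helper63.HUPT

open Cfsg.Agent.Lib.Helper50.HUPT

universe v

/-- an `r`-element of order dividing `p ≠ r` is trivial -/
theorem fixm_eq_one {G : Type v} [Group G] (M : Subgroup G) {p r : ℕ} (hp : p.Prime)
    (hr : r.Prime) (hpr : p ≠ r) (hM : IsPGroup r M) {z : G} (hz : z ∈ M) (hzp : z ^ p = 1) :
    z = 1 := by
  obtain ⟨j, hj⟩ := hM ⟨z, hz⟩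
  have hj' : z ^ (r ^ j) = 1 := by
    have := congrArg Subtype.val hj
    simpa using this
  have h1 : orderOf z ∣ p := orderOf_dvd_of_pow_eq_one hzp
  have h2 : orderOf z ∣ r ^ j := orderOf_dvd_of_pow_eq_one hj'
  have hcop : Nat.Coprime p (r ^ j) := Nat.Coprime.pow_right j ((Nat.coprime_primes hp hr).2 hpr)
  have h3 : orderOf z = 1 := Nat.eq_one_of_dvd_coprimes hcop h1 h2
  exact orderOf_eq_one_iff.1 h3

/-- the product `b₀ b₁ … b_{n-1}` with `b_i = y^i b y^{-i}` -/
def fixmProd {G : Type v} [Group G] (y b : G) : ℕ → G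
  | 0 => 1
  | (n + 1) => fixmProd y b n * (y ^ n * b * (y ^ n)⁻¹)

theorem fixmProd_succ {G : Type v} [Group G] (y b : G) (n : ℕ) :
    fixmProd y b (n + 1) = fixmProd y b n * (y ^ n * b * (y ^ n)⁻¹) := rfl

theorem fixmProd_mem {G : Type v} [Group G] (M : Subgroup G) (hMn : M.Normal) (y : G) {b : G}
    (hb : b ∈ M) (n : ℕ) : fixmProd y b n ∈ M := by
  induction n with
  | zero => exact M.one_mem
  | succ n ih =>
    rw [fixmProd_succ]
    exact M.mul_mem ih (hMn.conj_mem b hb (y ^ n))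

theorem fixmProd_conj {G : Type v} [Group G] (y b : G) (n : ℕ) :
    y * fixmProd y b n * y⁻¹ = b⁻¹ * fixmProd y b (n + 1) := by
  induction n with
  | zero => simp [fixmProd]
  | succ n ih =>
    rw [fixmProd_succ y b (n + 1)]
    have h1 : y * fixmProd y b (n + 1) * y⁻¹
        = (y * fixmProd y b n * y⁻¹) * (y * (y ^ n * b * (y ^ n)⁻¹) * y⁻¹) := by
      rw [fixmProd_succ]; group
    rw [h1, ih]
    group

/-- `d ↦ cm c d` is multiplicative when the commutators are central -/
theorem fixm_cm_mul {G : Type v} [Group G] (c d e : G) (h : cm c e * d = d * cm c e) :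
    cm c (d * e) = cm c d * cm c e := by
  have h' : cm c e * d⁻¹ = d⁻¹ * cm c e :=
    (Commute.inv_right (show Commute (cm c e) d from h)).eq
  unfold cm at *
  calc c * (d * e) * c⁻¹ * (d * e)⁻¹ = c * d * c⁻¹ * (c * e * c⁻¹ * e⁻¹ * d⁻¹) := by group
    _ = c * d * c⁻¹ * (d⁻¹ * (c * e * c⁻¹ * e⁻¹)) := by rw [h']
    _ = c * d * c⁻¹ * d⁻¹ * (c * e * c⁻¹ * e⁻¹) := by group

theorem fixm_cm_conj {G : Type v} [Group G] (c b u : G) (hcu : c * u = u * c)
    (huc : u * cm c b = cm c b * u) : cm c (u * b * u⁻¹) = cm c b := by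
  have h1 : cm c (u * b * u⁻¹) = u * cm c b * u⁻¹ := by
    unfold cm
    calc c * (u * b * u⁻¹) * c⁻¹ * (u * b * u⁻¹)⁻¹
        = (c * u) * b * (c * u)⁻¹ * u * b⁻¹ * u⁻¹ := by group
      _ = (u * c) * b * (u * c)⁻¹ * u * b⁻¹ * u⁻¹ := by rw [hcu]
      _ = u * (c * b * c⁻¹ * b⁻¹) * u⁻¹ := by group
  rw [h1, huc]; group

/-- [FIXM] -/
theorem pkgFixM : PkgFixM.{v} := by
  intro G _ _ M y p r hp hr hpr hMn hMr hyp hCl hZ hC
  -- (i)
  have key1 : ∀ a ∈ M, (∀ b ∈ M, cm y a * b = b * cm y a) → y * a = a * y := by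
    intro a ha hcen
    have hζM : cm y a ∈ M := by
      unfold cm
      exact M.mul_mem (hMn.conj_mem a ha y) (M.inv_mem ha)
    have hyζ : y * cm y a = cm y a * y := hZ _ hζM (fun b hb => hcen b hb)
    have hya : y * a * y⁻¹ = cm y a * a := by unfold cm; group
    have hpow : ∀ k : ℕ, y ^ k * a * (y ^ k)⁻¹ = cm y a ^ k * a := by
      intro k
      induction k with
      | zero => simp
      | succ k ih =>
        have hyk : y * cm y a ^ k = cm y a ^ k * y :=
          (Commute.pow_right (show Commute y (cm y a) from hyζ) k).eq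
        calc y ^ (k + 1) * a * (y ^ (k + 1))⁻¹ = y * (y ^ k * a * (y ^ k)⁻¹) * y⁻¹ := by group
          _ = y * (cm y a ^ k * a) * y⁻¹ := by rw [ih]
          _ = (y * cm y a ^ k) * a * y⁻¹ := by group
          _ = cm y a ^ k * (y * a * y⁻¹) := by rw [hyk]; group
          _ = cm y a ^ k * (cm y a * a) := by rw [hya]
          _ = cm y a ^ (k + 1) * a := by rw [pow_succ]; group
    have hζp : cm y a ^ p = 1 := by
      have h := hpow p
      rw [hyp, one_mul, inv_one, mul_one] at h
      have h2 : cm y a ^ p * a = 1 * a := by rw [one_mul]; exact h.symm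
      exact mul_right_cancel h2
    have hζ1 : cm y a = 1 := fixm_eq_one M hp hr hpr hMr hζM hζp
    have h3 : y * a = cm y a * (a * y) := by unfold cm; group
    rw [hζ1, one_mul] at h3
    exact h3
  intro a ha hcen b hb
  have hya : y * a = a * y := key1 a ha hcen
  have hBM : fixmProd y b p ∈ M := fixmProd_mem M hMn y hb p
  -- `y B y⁻¹ = b⁻¹ B b`
  have hconj : y * fixmProd y b p * y⁻¹ = b⁻¹ * (fixmProd y b p * b) := by
    rw [fixmProd_conj, fixmProd_succ, hyp]; simp
  have hcmB : cm y (fixmProd y b p) = cm b⁻¹ (fixmProd y b p) := by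
    unfold cm
    rw [hconj]; group
  have hyB : y * fixmProd y b p = fixmProd y b p * y := by
    apply key1 _ hBM
    intro e he
    rw [hcmB]
    exact hCl _ (M.inv_mem hb) _ hBM e he
  have haB : a * fixmProd y b p = fixmProd y b p * a := hC a ha _ hBM hya hyB
  -- `cm a b` is central in `M`, hence fixed by `y`
  have hcabM : cm a b ∈ M := by
    unfold cm
    exact M.mul_mem (M.mul_mem (M.mul_mem ha hb) (M.inv_mem ha)) (M.inv_mem hb)
  have hycab : y * cm a b = cm a b * y := hZ _ hcabM (fun e he => hCl a ha b hb e he)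
  have hprod : ∀ n : ℕ, cm a (fixmProd y b n) = cm a b ^ n := by
    intro n
    induction n with
    | zero => simp [fixmProd, cm]
    | succ n ih =>
      rw [fixmProd_succ]
      have hbnM : y ^ n * b * (y ^ n)⁻¹ ∈ M := hMn.conj_mem b hb (y ^ n)
      have h1 : cm a (y ^ n * b * (y ^ n)⁻¹) = cm a b := by
        apply fixm_cm_conj
        · exact ((Commute.pow_right (show Commute a y from hya.symm) n)).eq
        · exact ((Commute.pow_left (show Commute y (cm a b) from hycab) n)).eq
      rw [fixm_cm_mul a _ _ (hCl a ha _ hbnM _ (fixmProd_mem M hMn y hb n)), ih, h1, pow_succ]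
  have hcp : cm a b ^ p = 1 := by
    rw [← hprod p]
    unfold cm
    rw [haB]; group
  have hc1 : cm a b = 1 := fixm_eq_one M hp hr hpr hMr hcabM hcp
  have h4 : a * b = cm a b * (b * a) := by unfold cm; group
  rw [hc1, one_mul] at h4
  exact h4

end Cfsg.Agent.Lib.Helper63.HUPT
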